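import Mathlib
import Cfsg.Prelude.Def_SporadicB

set_option autoImplicit false

/-!
# Classes, centralisers and double covers (abstract part for S0472)
-/

namespace Cfsg.Agent.Helper92.Fi23T

section Cent

variable {G : Type*} [Group G]

theorem mem_cent_iff (z x : G) : x ∈ Subgroup.centralizer ({z} : Set G) ↔ x * z = z * x := by
  rw [Subgroup.mem_centralizer_iff]
  constructor
  · intro h; exact (h z (Set.mem_singleton z)).symm
  · intro h y hy
    rw [Set.mem_singleton_iff] at hy
    subst hy
    exact h.symm

/-- the size of a conjugacy class is the index of the centraliser -/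
theorem card_conjugatesOf_eq_index (z : G) :
    Nat.card (conjugatesOf z) = (Subgroup.centralizer ({z} : Set G)).index := by
  have hker : Setoid.ker (fun g : G => g * z * g⁻¹) =
      QuotientGroup.leftRel (Subgroup.centralizer ({z} : Set G)) := by
    ext a b
    rw [Setoid.ker_def, QuotientGroup.leftRel_apply, mem_cent_iff]
    constructor
    · intro h
      calc a⁻¹ * b * z = a⁻¹ * (b * z * b⁻¹) * b := by group
        _ = a⁻¹ * (a * z * a⁻¹) * b := by rw [h]
        _ = z * (a⁻¹ * b) := by group
    · intro h
      calc a * z * a⁻¹ = a * (z * (a⁻¹ * b)) * b⁻¹ := by group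
        _ = a * (a⁻¹ * b * z) * b⁻¹ := by rw [h]
        _ = b * z * b⁻¹ := by group
  have hrange : conjugatesOf z = Set.range (fun g : G => g * z * g⁻¹) := by
    ext x
    exact isConj_iff (a := z) (b := x)
  rw [hrange, ← Nat.card_congr (Setoid.quotientKerEquivRange (fun g : G => g * z * g⁻¹)), hker]
  rfl

/-- conjugate elements have isomorphic centralisers -/
noncomputable def centConjEquiv (z g : G) :
    Subgroup.centralizer ({g * z * g⁻¹} : Set G) ≃* Subgroup.centralizer ({z} : Set G) where
  toFun x := ⟨g⁻¹ * x * g, by
    have hx := (mem_cent_iff (g * z * g⁻¹) x).mp x.2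
    rw [mem_cent_iff]
    calc g⁻¹ * (x : G) * g * z = g⁻¹ * ((x : G) * (g * z * g⁻¹)) * g := by group
      _ = g⁻¹ * ((g * z * g⁻¹) * (x : G)) * g := by rw [hx]
      _ = z * (g⁻¹ * (x : G) * g) := by group⟩
  invFun y := ⟨g * y * g⁻¹, by
    have hy := (mem_cent_iff z y).mp y.2
    rw [mem_cent_iff]
    calc g * (y : G) * g⁻¹ * (g * z * g⁻¹) = g * ((y : G) * z) * g⁻¹ := by group
      _ = g * (z * (y : G)) * g⁻¹ := by rw [hy]
      _ = g * z * g⁻¹ * (g * (y : G) * g⁻¹) := by group⟩
  left_inv x := by
    apply Subtype.ext
    show g * (g⁻¹ * (x : G) * g) * g⁻¹ = x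
    group
  right_inv y := by
    apply Subtype.ext
    show g⁻¹ * (g * (y : G) * g⁻¹) * g = y
    group
  map_mul' x y := by
    apply Subtype.ext
    show g⁻¹ * ((x : G) * (y : G)) * g = (g⁻¹ * (x : G) * g) * (g⁻¹ * (y : G) * g)
    group

/-- a non-trivial class of a simple group generates it -/
theorem closure_conjugatesOf_eq_top (hs : IsSimpleGroup G) (z : G) (hz : z ≠ 1) :
    Subgroup.closure (conjugatesOf z) = ⊤ := by
  have h1 : Subgroup.closure (conjugatesOf z) = Subgroup.normalClosure {z} := by
    unfold Subgroup.normalClosure Group.conjugatesOfSet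
    simp
  rw [h1]
  rcases hs.eq_bot_or_eq_top_of_normal (Subgroup.normalClosure {z}) Subgroup.normalClosure_normal with h | h
  · exfalso
    apply hz
    have : z ∈ Subgroup.normalClosure ({z} : Set G) := Subgroup.subset_normalClosure (Set.mem_singleton z)
    rw [h, Subgroup.mem_bot] at this
    exact this
  · exact h

/-- in a simple group with trivial centre, a maximal subgroup with a non-trivial central element is the centraliser
of that element -/
theorem centralizer_eq_of_maximal (K : Subgroup G) (hmax : ∀ M : Subgroup G, K ≤ M → M = K ∨ M = ⊤)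
    (hcen : Subgroup.center G = ⊥) (z : G) (hz : z ≠ 1) (hzK : ∀ k ∈ K, k * z = z * k) :
    Subgroup.centralizer ({z} : Set G) = K := by
  have hle : K ≤ Subgroup.centralizer ({z} : Set G) := by
    intro k hk
    rw [mem_cent_iff]
    exact hzK k hk
  rcases hmax _ hle with h | h
  · exact h
  · exfalso
    apply hz
    have : z ∈ Subgroup.center G := by
      rw [Subgroup.mem_center_iff]
      intro g
      have hg : g ∈ Subgroup.centralizer ({z} : Set G) := by rw [h]; exact Subgroup.mem_top g
      exact (mem_cent_iff z g).mp hg
    rw [hcen, Subgroup.mem_bot] at this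
    exact this

end Cent

section Cover

variable {H H' K : Type*} [Group H] [Group H'] [Group K]

theorem center_map_symm (e : H' ≃* H) :
    (Subgroup.center H).map e.symm.toMonoidHom = Subgroup.center H' := by
  ext x
  rw [Subgroup.mem_map_equiv, Subgroup.mem_center_iff, Subgroup.mem_center_iff]
  constructor
  · intro h y'
    have h2 := h (e y')
    apply e.injective
    rw [map_mul, map_mul]
    simpa using h2
  · intro h y
    obtain ⟨y', rfl⟩ := e.surjective y
    have h2 := h y'
    have h3 : e (y' * x) = e (x * y') := by rw [h2]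
    rw [map_mul, map_mul] at h3
    simpa using h3

/-- being a non-split double cover is invariant under isomorphism of the covering group -/
theorem nonsplit_congr [Finite H] (e : H' ≃* H) (h : Cfsg.IsNonsplitDoubleCover H K) :
    Cfsg.IsNonsplitDoubleCover H' K := by
  obtain ⟨hc, ⟨φ⟩, hns⟩ := h
  have hfin : Finite H' := Finite.of_equiv H e.symm.toEquiv
  have hmap := center_map_symm e
  have hcard : Nat.card (Subgroup.center H') = Nat.card (Subgroup.center H) := by
    rw [← hmap]
    exact Nat.card_congr (e.symm.subgroupMap (Subgroup.center H)).symm.toEquiv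
  refine ⟨hcard.trans hc, ?_, ?_⟩
  · exact ⟨(QuotientGroup.congr (Subgroup.center H) (Subgroup.center H') e.symm hmap).symm.trans φ⟩
  · intro L' hL'
    apply hns (L'.map e.toMonoidHom)
    rw [Subgroup.isComplement'_iff_card_mul_and_disjoint] at hL' ⊢
    obtain ⟨h1, h2⟩ := hL'
    constructor
    · rw [← hcard, Subgroup.card_map_of_injective e.injective, h1]
      exact Nat.card_congr e.toEquiv
    · rw [Subgroup.disjoint_def] at h2 ⊢
      intro x hx1 hx2
      rw [Subgroup.mem_map_equiv] at hx2
      have hx3 : e.symm x ∈ Subgroup.center H' := by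
        rw [← hmap, Subgroup.mem_map_equiv]
        simpa using hx1
      have := h2 hx3 hx2
      have h4 : e (e.symm x) = e 1 := by rw [this]
      simpa using h4

end Cover

end Cfsg.Agent.Helper92.Fi23T
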