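import Mathlib
import Cfsg.Prelude.Def_SporadicB

set_option autoImplicit false

/-!
# Rank three subgroups and 3-transpositions (abstract part for S0472)

`K ≤ G` has exactly three orbits on `G ⧸ K`, of sizes `1, s1, s2`.  Then `K` is maximal as soon as neither `1 + s1`
nor `1 + s2` divides the index, and if `z` is a central involution of `K` with `C_G(z) = K` whose class contains
elements `e1, e2 ≠ z` with `(z e1)^2 = 1 = (z e2)^3`, the class of `z` is a class of 3-transpositions.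
-/

namespace Cfsg.Agent.Helper92.Fi23T

open MulAction

section Orbits

variable {G : Type*} [Group G] (K : Subgroup G)

theorem smul_coset (k : K) (g : G) : k • (g : G ⧸ K) = (((k : G) * g : G) : G ⧸ K) := rfl

theorem mem_orbit_coset_iff (r g : G) :
    (g : G ⧸ K) ∈ orbit K (r : G ⧸ K) ↔ ∃ k ∈ K, ∃ k' ∈ K, g = k * r * k' := by
  constructor
  · rintro ⟨k, hk⟩
    have hk' : (((k : G) * r : G) : G ⧸ K) = (g : G ⧸ K) := hk
    rw [QuotientGroup.eq] at hk'
    exact ⟨k, k.2, _, hk', by group⟩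
  · rintro ⟨k, hk, k', hk', rfl⟩
    refine ⟨⟨k, hk⟩, ?_⟩
    show (((k * r : G)) : G ⧸ K) = ((k * r * k' : G) : G ⧸ K)
    rw [QuotientGroup.eq]
    have e : (k * r)⁻¹ * (k * r * k') = k' := by group
    rw [e]
    exact hk'

theorem orbit_one_coset : orbit K ((1 : G) : G ⧸ K) = {((1 : G) : G ⧸ K)} := by
  ext q
  rw [Set.mem_singleton_iff]
  constructor
  · rintro ⟨k, rfl⟩
    show (((k : G) * 1 : G) : G ⧸ K) = ((1 : G) : G ⧸ K)
    rw [QuotientGroup.eq]
    have e : ((k : G) * 1)⁻¹ * 1 = (k : G)⁻¹ := by group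
    rw [e]
    exact K.inv_mem k.2
  · rintro rfl
    exact mem_orbit_self _

theorem coset_mem_orbit_one_iff (g : G) : (g : G ⧸ K) ∈ orbit K ((1 : G) : G ⧸ K) ↔ g ∈ K := by
  rw [orbit_one_coset, Set.mem_singleton_iff, QuotientGroup.eq]
  constructor
  · intro h
    have e : g = (g⁻¹ * 1)⁻¹ := by group
    rw [e]
    exact K.inv_mem h
  · intro h
    have e : g⁻¹ * 1 = g⁻¹ := by group
    rw [e]
    exact K.inv_mem h

/-- three orbits of sizes `1, s1, s2` adding up to the index cover everything -/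
theorem three_orbits_cover [Finite (G ⧸ K)] (s1 s2 : ℕ) (q1 q2 : G ⧸ K)
    (h1 : (orbit K q1).ncard = s1) (h2 : (orbit K q2).ncard = s2)
    (hn : K.index = 1 + s1 + s2) (hs1 : 1 < s1) (hs2 : 1 < s2) (hne : s1 ≠ s2) (q : G ⧸ K) :
    q ∈ orbit K ((1 : G) : G ⧸ K) ∨ q ∈ orbit K q1 ∨ q ∈ orbit K q2 := by
  have h0 : (orbit K ((1 : G) : G ⧸ K)).ncard = 1 := by
    rw [orbit_one_coset]; exact Set.ncard_singleton _
  have d01 : Disjoint (orbit K ((1 : G) : G ⧸ K)) (orbit K q1) := by
    rcases orbit.eq_or_disjoint (G := K) ((1 : G) : G ⧸ K) q1 with h | h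
    · exfalso; rw [h] at h0; omega
    · exact h
  have d02 : Disjoint (orbit K ((1 : G) : G ⧸ K)) (orbit K q2) := by
    rcases orbit.eq_or_disjoint (G := K) ((1 : G) : G ⧸ K) q2 with h | h
    · exfalso; rw [h] at h0; omega
    · exact h
  have d12 : Disjoint (orbit K q1) (orbit K q2) := by
    rcases orbit.eq_or_disjoint (G := K) q1 q2 with h | h
    · exfalso; rw [h] at h1; omega
    · exact h
  have hU : ((orbit K ((1 : G) : G ⧸ K) ∪ orbit K q1) ∪ orbit K q2).ncard = 1 + s1 + s2 := by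
    rw [Set.ncard_union_eq (Set.disjoint_union_left.mpr ⟨d02, d12⟩), Set.ncard_union_eq d01, h0, h1, h2]
  have hX : Nat.card (G ⧸ K) = 1 + s1 + s2 := by rw [← hn]; rfl
  have hUu : (orbit K ((1 : G) : G ⧸ K) ∪ orbit K q1) ∪ orbit K q2 = Set.univ := by
    apply Set.eq_of_subset_of_ncard_le (Set.subset_univ _)
    rw [Set.ncard_univ, hX, hU]
  have hq : q ∈ (orbit K ((1 : G) : G ⧸ K) ∪ orbit K q1) ∪ orbit K q2 := by
    rw [hUu]; exact Set.mem_univ q
  rcases hq with (hq | hq) | hq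
  · exact Or.inl hq
  · exact Or.inr (Or.inl hq)
  · exact Or.inr (Or.inr hq)

/-- a subgroup with three orbits on its cosets, of sizes `1, s1, s2`, is maximal if neither `1 + s1` nor `1 + s2`
divides the index -/
theorem maximal_of_three_orbits [Finite (G ⧸ K)] (s1 s2 : ℕ) (q1 q2 : G ⧸ K)
    (h1 : (orbit K q1).ncard = s1) (h2 : (orbit K q2).ncard = s2)
    (hn : K.index = 1 + s1 + s2) (hs1 : 1 < s1) (hs2 : 1 < s2) (hne : s1 ≠ s2)
    (hd1 : ¬ (1 + s1) ∣ (1 + s1 + s2)) (hd2 : ¬ (1 + s2) ∣ (1 + s1 + s2))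
    (M : Subgroup G) (hKM : K ≤ M) : M = K ∨ M = ⊤ := by
  have hcov := three_orbits_cover K s1 s2 q1 q2 h1 h2 hn hs1 hs2 hne
  have h0 : (orbit K ((1 : G) : G ⧸ K)).ncard = 1 := by
    rw [orbit_one_coset]; exact Set.ncard_singleton _
  have d01 : Disjoint (orbit K ((1 : G) : G ⧸ K)) (orbit K q1) := by
    rcases orbit.eq_or_disjoint (G := K) ((1 : G) : G ⧸ K) q1 with h | h
    · exfalso; rw [h] at h0; omega
    · exact h
  have d02 : Disjoint (orbit K ((1 : G) : G ⧸ K)) (orbit K q2) := by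
    rcases orbit.eq_or_disjoint (G := K) ((1 : G) : G ⧸ K) q2 with h | h
    · exfalso; rw [h] at h0; omega
    · exact h
  -- the orbit of the base point under `M`
  have hinv : ∀ q ∈ orbit M ((1 : G) : G ⧸ K), ∀ k : K, k • q ∈ orbit M ((1 : G) : G ⧸ K) := by
    rintro _ ⟨m, rfl⟩ k
    exact ⟨⟨(k : G) * m, M.mul_mem (hKM k.2) m.2⟩, by
      show ((((k : G) * (m : G)) * 1 : G) : G ⧸ K) = (((k : G) * ((m : G) * 1) : G) : G ⧸ K)
      rw [mul_assoc]⟩
  have hsub : ∀ q ∈ orbit M ((1 : G) : G ⧸ K), orbit K q ⊆ orbit M ((1 : G) : G ⧸ K) := by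
    rintro q hq _ ⟨k, rfl⟩
    exact hinv q hq k
  have hbase : ((1 : G) : G ⧸ K) ∈ orbit M ((1 : G) : G ⧸ K) := mem_orbit_self _
  have hst : stabilizer M ((1 : G) : G ⧸ K) = K.subgroupOf M := by
    ext m
    rw [mem_stabilizer_iff, Subgroup.mem_subgroupOf]
    show ((((m : G) * 1 : G)) : G ⧸ K) = ((1 : G) : G ⧸ K) ↔ (m : G) ∈ K
    rw [QuotientGroup.eq]
    have e : ((m : G) * 1)⁻¹ * 1 = (m : G)⁻¹ := by group
    rw [e]
    exact inv_mem_iff
  have hcard : (orbit M ((1 : G) : G ⧸ K)).ncard * M.index = 1 + s1 + s2 := by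
    have h3 := MulAction.index_stabilizer M ((1 : G) : G ⧸ K)
    rw [hst] at h3
    rw [← h3, ← hn]
    exact Subgroup.relIndex_mul_index hKM
  have hMK : (orbit M ((1 : G) : G ⧸ K)).ncard = 1 → M ≤ K := by
    intro hc m hm
    rw [Set.ncard_eq_one] at hc
    obtain ⟨a, ha⟩ := hc
    have e1 : ((1 : G) : G ⧸ K) = a := by
      have := hbase; rw [ha] at this; exact this
    have e2 : ((m : G) : G ⧸ K) = a := by
      have h4 : ((m : G) : G ⧸ K) ∈ orbit M ((1 : G) : G ⧸ K) :=
        ⟨⟨m, hm⟩, by show (((m * 1 : G)) : G ⧸ K) = _; rw [mul_one]⟩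
      rw [ha] at h4; exact h4
    have e3 : ((m : G) : G ⧸ K) = ((1 : G) : G ⧸ K) := e2.trans e1.symm
    rw [QuotientGroup.eq] at e3
    have e : m = (m⁻¹ * 1)⁻¹ := by group
    rw [e]
    exact K.inv_mem e3
  by_cases c1 : q1 ∈ orbit M ((1 : G) : G ⧸ K)
  · by_cases c2 : q2 ∈ orbit M ((1 : G) : G ⧸ K)
    · -- everything
      right
      have huniv : orbit M ((1 : G) : G ⧸ K) = Set.univ := by
        ext q
        simp only [Set.mem_univ, iff_true]
        rcases hcov q with h | h | h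
        · exact hsub _ hbase h
        · exact hsub _ c1 h
        · exact hsub _ c2 h
      rw [huniv, Set.ncard_univ] at hcard
      have hX : Nat.card (G ⧸ K) = 1 + s1 + s2 := by rw [← hn]; rfl
      rw [hX] at hcard
      have : M.index = 1 := by
        have hpos : 0 < 1 + s1 + s2 := by omega
        exact Nat.eq_of_mul_eq_mul_left hpos (by rw [hcard, mul_one])
      exact Subgroup.index_eq_one.mp this
    · -- `1 + s1`
      exfalso
      have hS : orbit M ((1 : G) : G ⧸ K) = orbit K ((1 : G) : G ⧸ K) ∪ orbit K q1 := by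
        ext q
        constructor
        · intro hq
          rcases hcov q with h | h | h
          · exact Or.inl h
          · exact Or.inr h
          · exfalso
            apply c2
            have : q2 ∈ orbit K q := by
              rw [MulAction.orbit_eq_iff.mpr h]; exact mem_orbit_self _
            exact hsub q hq this
        · rintro (h | h)
          · exact hsub _ hbase h
          · exact hsub _ c1 h
      rw [hS, Set.ncard_union_eq d01, h0, h1] at hcard
      exact hd1 ⟨M.index, hcard.symm⟩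
  · by_cases c2 : q2 ∈ orbit M ((1 : G) : G ⧸ K)
    · exfalso
      have hS : orbit M ((1 : G) : G ⧸ K) = orbit K ((1 : G) : G ⧸ K) ∪ orbit K q2 := by
        ext q
        constructor
        · intro hq
          rcases hcov q with h | h | h
          · exact Or.inl h
          · exfalso
            apply c1
            have : q1 ∈ orbit K q := by
              rw [MulAction.orbit_eq_iff.mpr h]; exact mem_orbit_self _
            exact hsub q hq this
          · exact Or.inr h
        · rintro (h | h)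
          · exact hsub _ hbase h
          · exact hsub _ c2 h
      rw [hS, Set.ncard_union_eq d02, h0, h2] at hcard
      exact hd2 ⟨M.index, hcard.symm⟩
    · left
      apply le_antisymm _ hKM
      apply hMK
      have hS : orbit M ((1 : G) : G ⧸ K) = orbit K ((1 : G) : G ⧸ K) := by
        ext q
        constructor
        · intro hq
          rcases hcov q with h | h | h
          · exact h
          · exfalso
            apply c1
            have : q1 ∈ orbit K q := by
              rw [MulAction.orbit_eq_iff.mpr h]; exact mem_orbit_self _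
            exact hsub q hq this
          · exfalso
            apply c2
            have : q2 ∈ orbit K q := by
              rw [MulAction.orbit_eq_iff.mpr h]; exact mem_orbit_self _
            exact hsub q hq this
        · intro h
          exact hsub _ hbase h
      rw [hS, h0]

/-- with three orbits in all, any two non-trivial double cosets that are different cover the complement of `K` -/
theorem double_coset_cover [Finite (G ⧸ K)] (s1 s2 : ℕ) (q1 q2 : G ⧸ K)
    (h1 : (orbit K q1).ncard = s1) (h2 : (orbit K q2).ncard = s2)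
    (hn : K.index = 1 + s1 + s2) (hs1 : 1 < s1) (hs2 : 1 < s2) (hne : s1 ≠ s2)
    (g1 g2 : G) (hg1 : g1 ∉ K) (hg2 : g2 ∉ K)
    (h12 : ¬ ∃ k ∈ K, ∃ k' ∈ K, g2 = k * g1 * k') (g : G) :
    g ∈ K ∨ (∃ k ∈ K, ∃ k' ∈ K, g = k * g1 * k') ∨ (∃ k ∈ K, ∃ k' ∈ K, g = k * g2 * k') := by
  have hcov := three_orbits_cover K s1 s2 q1 q2 h1 h2 hn hs1 hs2 hne
  have hg1' : (g1 : G ⧸ K) ∉ orbit K ((1 : G) : G ⧸ K) := by
    rw [coset_mem_orbit_one_iff]; exact hg1
  have hg2' : (g2 : G ⧸ K) ∉ orbit K ((1 : G) : G ⧸ K) := by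
    rw [coset_mem_orbit_one_iff]; exact hg2
  have h12' : (g2 : G ⧸ K) ∉ orbit K (g1 : G ⧸ K) := by
    rw [mem_orbit_coset_iff]; exact h12
  -- the orbits of `g1 K` and `g2 K` are the two non-trivial orbits
  have key : ∀ q : G ⧸ K, q ∈ orbit K ((1 : G) : G ⧸ K) ∨ q ∈ orbit K (g1 : G ⧸ K) ∨
      q ∈ orbit K (g2 : G ⧸ K) := by
    intro q
    rcases hcov (g1 : G ⧸ K) with a | a | a
    · exact absurd a hg1'
    · rcases hcov (g2 : G ⧸ K) with b | b | b
      · exact absurd b hg2'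
      · exfalso
        apply h12'
        rw [MulAction.orbit_eq_iff.mpr a, ← MulAction.orbit_eq_iff.mpr b]
        exact mem_orbit_self _
      · rcases hcov q with c | c | c
        · exact Or.inl c
        · right; left; rw [MulAction.orbit_eq_iff.mpr a]; exact c
        · right; right; rw [MulAction.orbit_eq_iff.mpr b]; exact c
    · rcases hcov (g2 : G ⧸ K) with b | b | b
      · exact absurd b hg2'
      · rcases hcov q with c | c | c
        · exact Or.inl c
        · right; right; rw [MulAction.orbit_eq_iff.mpr b]; exact c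
        · right; left; rw [MulAction.orbit_eq_iff.mpr a]; exact c
      · exfalso
        apply h12'
        rw [MulAction.orbit_eq_iff.mpr a, ← MulAction.orbit_eq_iff.mpr b]
        exact mem_orbit_self _
  rcases key (g : G ⧸ K) with h | h | h
  · left; exact (coset_mem_orbit_one_iff K g).mp h
  · right; left; exact (mem_orbit_coset_iff K g1 g).mp h
  · right; right; exact (mem_orbit_coset_iff K g2 g).mp h

end Orbits

section Transp

variable {G : Type*} [Group G]

theorem mem_conjOf_iff (z d : G) : d ∈ conjugatesOf z ↔ ∃ c : G, c * z * c⁻¹ = d :=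
  isConj_iff (a := z) (b := d)

theorem conj_comm_of_mem (K : Subgroup G) (z : G) (hzK : ∀ k ∈ K, k * z = z * k) (k : G) (hk : k ∈ K) :
    k * z * k⁻¹ = z := by
  rw [hzK k hk]; group

theorem prod_conj_eq (K : Subgroup G) (z : G) (hzK : ∀ k ∈ K, k * z = z * k) (k k' r : G)
    (hk : k ∈ K) (hk' : k' ∈ K) :
    z * (k * r * k' * z * (k * r * k')⁻¹) = k * (z * (r * z * r⁻¹)) * k⁻¹ := by
  have a2 : k' * z * k'⁻¹ = z := conj_comm_of_mem K z hzK k' hk'
  have a1 : z * k = k * z := (hzK k hk).symm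
  calc z * (k * r * k' * z * (k * r * k')⁻¹)
      = z * k * r * (k' * z * k'⁻¹) * r⁻¹ * k⁻¹ := by group
    _ = k * z * r * z * r⁻¹ * k⁻¹ := by rw [a2, a1]
    _ = k * (z * (r * z * r⁻¹)) * k⁻¹ := by group

/-- the class of `z` consists of 3-transpositions -/
theorem three_transp_of_cover (K : Subgroup G) (z g1 g2 : G)
    (hzK : ∀ k ∈ K, k * z = z * k) (hz2 : z * z = 1)
    (hcover : ∀ g : G, g ∈ K ∨ (∃ k ∈ K, ∃ k' ∈ K, g = k * g1 * k') ∨ (∃ k ∈ K, ∃ k' ∈ K, g = k * g2 * k'))
    (hc1 : (z * (g1 * z * g1⁻¹)) ^ 2 = 1) (hc2 : (z * (g2 * z * g2⁻¹)) ^ 3 = 1) :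
    ∀ d ∈ conjugatesOf z, ∀ e ∈ conjugatesOf z, (d * e) ^ 2 = 1 ∨ (d * e) ^ 3 = 1 := by
  have key : ∀ g : G, (z * (g * z * g⁻¹)) ^ 2 = 1 ∨ (z * (g * z * g⁻¹)) ^ 3 = 1 := by
    intro g
    rcases hcover g with hg | ⟨k, hk, k', hk', rfl⟩ | ⟨k, hk, k', hk', rfl⟩
    · left
      rw [conj_comm_of_mem K z hzK g hg, hz2, one_pow]
    · left
      rw [prod_conj_eq K z hzK k k' g1 hk hk', conj_pow, hc1, mul_one, mul_inv_cancel]
    · right
      rw [prod_conj_eq K z hzK k k' g2 hk hk', conj_pow, hc2, mul_one, mul_inv_cancel]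
  intro d hd e he
  rw [mem_conjOf_iff] at hd he
  obtain ⟨x, rfl⟩ := hd
  obtain ⟨y, rfl⟩ := he
  have e : x * z * x⁻¹ * (y * z * y⁻¹) = x * (z * ((x⁻¹ * y) * z * (x⁻¹ * y)⁻¹)) * x⁻¹ := by group
  rw [e, conj_pow, conj_pow]
  rcases key (x⁻¹ * y) with h | h
  · left; rw [h, mul_one, mul_inv_cancel]
  · right; rw [h, mul_one, mul_inv_cancel]

theorem eq_one_of_pow_two_three (w : G) (h2 : w ^ 2 = 1) (h3 : w ^ 3 = 1) : w = 1 := by
  have : w ^ 3 = w ^ 2 * w := pow_succ w 2
  rw [h3, h2, one_mul] at this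
  exact this.symm

/-- the main criterion: three orbits, a central involution `z` of `K` with `C(z) ≤ K`, and two conjugates of `z`
different from `z`, one commuting with `z` and one whose product with `z` has order three -/
theorem three_transp_main (K : Subgroup G) [Finite (G ⧸ K)] (s1 s2 : ℕ) (q1 q2 : G ⧸ K)
    (h1 : (orbit K q1).ncard = s1) (h2 : (orbit K q2).ncard = s2)
    (hn : K.index = 1 + s1 + s2) (hs1 : 1 < s1) (hs2 : 1 < s2) (hne : s1 ≠ s2)
    (z : G) (hzK : ∀ k ∈ K, k * z = z * k) (hz2 : z * z = 1)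
    (g1 g2 : G) (hn1 : g1 * z * g1⁻¹ ≠ z) (hn2 : g2 * z * g2⁻¹ ≠ z)
    (hc1 : (z * (g1 * z * g1⁻¹)) ^ 2 = 1) (hc2 : (z * (g2 * z * g2⁻¹)) ^ 3 = 1) :
    ∀ d ∈ conjugatesOf z, ∀ e ∈ conjugatesOf z, (d * e) ^ 2 = 1 ∨ (d * e) ^ 3 = 1 := by
  have hg1 : g1 ∉ K := fun h => hn1 (conj_comm_of_mem K z hzK g1 h)
  have hg2 : g2 ∉ K := fun h => hn2 (conj_comm_of_mem K z hzK g2 h)
  have h12 : ¬ ∃ k ∈ K, ∃ k' ∈ K, g2 = k * g1 * k' := by
    rintro ⟨k, hk, k', hk', hg⟩
    apply hn2
    have e := prod_conj_eq K z hzK k k' g1 hk hk'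
    rw [← hg] at e
    have e2 : (z * (g2 * z * g2⁻¹)) ^ 2 = 1 := by
      rw [e, conj_pow, hc1, mul_one, mul_inv_cancel]
    have e3 := eq_one_of_pow_two_three _ e2 hc2
    have hzi : z⁻¹ = z := inv_eq_of_mul_eq_one_right hz2
    calc g2 * z * g2⁻¹ = z⁻¹ * (z * (g2 * z * g2⁻¹)) := by group
      _ = z := by rw [e3, mul_one, hzi]
  exact three_transp_of_cover K z g1 g2 hzK hz2
    (double_coset_cover K s1 s2 q1 q2 h1 h2 hn hs1 hs2 hne g1 g2 hg1 hg2 h12) hc1 hc2

end Transp

end Cfsg.Agent.Helper92.Fi23T
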