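import Cfsg.Agent.Helper92.Fi23T.Word
set_option autoImplicit false
set_option maxRecDepth 1000000
namespace Cfsg.Agent.Helper92.Fi23T
open Cfsg.Agent.Helper28 Cfsg.Agent.Helper28.Fi23a

theorem zp_17500 : permPieceF (fun _ => wz) letSel 0 1 17500 2500 = true := by decide +kernel
theorem zp_20000 : permPieceF (fun _ => wz) letSel 0 1 20000 2500 = true := by decide +kernel
theorem zp_22500 : permPieceF (fun _ => wz) letSel 0 1 22500 2500 = true := by decide +kernel
end Cfsg.Agent.Helper92.Fi23T
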