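import Cfsg.Agent.Helper92.Fi23T.WP0
import Cfsg.Agent.Helper92.Fi23T.WP1
import Cfsg.Agent.Helper92.Fi23T.WP2
import Cfsg.Agent.Helper92.Fi23T.WP3
set_option autoImplicit false
set_option maxRecDepth 1000000
namespace Cfsg.Agent.Helper92.Fi23T
open Cfsg.Agent.Helper28 Cfsg.Agent.Helper28.Fi23a

theorem zfix_all : TraceFix ptabs.perm (fun _ => wz) 0 1 31671 := by
  have h0 : TraceFix ptabs.perm (fun _ => wz) 0 1 2500 := traceFix_extendF _ _ letSel perm_eq 0 1 0 2500 2500 rfl (traceFix_zero _ _ 0 1) zp_0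
  have h1 : TraceFix ptabs.perm (fun _ => wz) 0 1 5000 := traceFix_extendF _ _ letSel perm_eq 0 1 2500 2500 5000 rfl h0 zp_2500
  have h2 : TraceFix ptabs.perm (fun _ => wz) 0 1 7500 := traceFix_extendF _ _ letSel perm_eq 0 1 5000 2500 7500 rfl h1 zp_5000
  have h3 : TraceFix ptabs.perm (fun _ => wz) 0 1 10000 := traceFix_extendF _ _ letSel perm_eq 0 1 7500 2500 10000 rfl h2 zp_7500
  have h4 : TraceFix ptabs.perm (fun _ => wz) 0 1 12500 := traceFix_extendF _ _ letSel perm_eq 0 1 10000 2500 12500 rfl h3 zp_10000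
  have h5 : TraceFix ptabs.perm (fun _ => wz) 0 1 15000 := traceFix_extendF _ _ letSel perm_eq 0 1 12500 2500 15000 rfl h4 zp_12500
  have h6 : TraceFix ptabs.perm (fun _ => wz) 0 1 17500 := traceFix_extendF _ _ letSel perm_eq 0 1 15000 2500 17500 rfl h5 zp_15000
  have h7 : TraceFix ptabs.perm (fun _ => wz) 0 1 20000 := traceFix_extendF _ _ letSel perm_eq 0 1 17500 2500 20000 rfl h6 zp_17500
  have h8 : TraceFix ptabs.perm (fun _ => wz) 0 1 22500 := traceFix_extendF _ _ letSel perm_eq 0 1 20000 2500 22500 rfl h7 zp_20000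
  have h9 : TraceFix ptabs.perm (fun _ => wz) 0 1 25000 := traceFix_extendF _ _ letSel perm_eq 0 1 22500 2500 25000 rfl h8 zp_22500
  have h10 : TraceFix ptabs.perm (fun _ => wz) 0 1 27500 := traceFix_extendF _ _ letSel perm_eq 0 1 25000 2500 27500 rfl h9 zp_25000
  have h11 : TraceFix ptabs.perm (fun _ => wz) 0 1 30000 := traceFix_extendF _ _ letSel perm_eq 0 1 27500 2500 30000 rfl h10 zp_27500
  have h12 : TraceFix ptabs.perm (fun _ => wz) 0 1 31671 := traceFix_extendF _ _ letSel perm_eq 0 1 30000 1671 31671 rfl h11 zp_30000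
  exact h12

theorem hrelz : relOk ptabs wz 0 ptabs.n = true :=
  relOk_of_traceFix ptabs (fun _ => wz) 0 1 zfix_all 0 (le_refl 0) (by omega)

end Cfsg.Agent.Helper92.Fi23T
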