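import Cfsg.Agent.Helper92.Fi23T.Abs
import Cfsg.Agent.Helper92.Fi23T.Abs2
import Cfsg.Agent.Helper92.Fi23T.WFix
import Cfsg.Agent.Helper28.Fi23D.Main
import Cfsg.Prelude.Def_Sporadic

set_option autoImplicit false
set_option maxRecDepth 1000000

/-!
# `Fi23` as a 3-transposition group (concrete part for S0472)

`G` is the presented group `Fi23`, `K = ⟨a, …, i⟩ = 2·Fi22` of index 31671 and rank 3, `z = (bcdefgh)^9` the central
involution of `K`.  The only computation is the word identity `z = u j u⁻¹`.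
-/

namespace Cfsg.Agent.Helper92.Fi23T

open Cfsg.Agent.Helper28 Cfsg.Spor

/-- the presented group `Fi23` -/
abbrev GG : Type := PresentedGroup Fi23a.R

/-- the subgroup `⟨a, …, i⟩` -/
abbrev K0 : Subgroup GG := HH Fi23a.R Fi23a.Y

/-- a generator of `Fi23` -/
noncomputable def gx (x : Fi23.Gen) : GG := PresentedGroup.mk Fi23a.R (FreeGroup.of x)

/-! ## Coxeter relations -/

theorem cox_rel (x y : Fi23.Gen) : (gx x * gx y) ^ coxLabel Fi23.edges x y = 1 := by
  have hx : x ∈ coxNodes Fi23.edges := by cases x <;> decide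
  have hy : y ∈ coxNodes Fi23.edges := by cases y <;> decide
  have hmem : (FreeGroup.of x * FreeGroup.of y) ^ coxLabel Fi23.edges x y ∈ Fi23a.R :=
    Or.inl ⟨x, hx, y, hy, rfl⟩
  have h := (PresentedGroup.mk_eq_one_iff (rels := Fi23a.R)).mpr (Subgroup.subset_normalClosure hmem)
  rw [map_pow, map_mul] at h
  exact h

theorem gx_sq (x : Fi23.Gen) : gx x * gx x = 1 := by
  have h := cox_rel x x
  have e : coxLabel Fi23.edges x x = 1 := by simp [coxLabel]
  rw [e, pow_one] at h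
  exact h

theorem braid_conj {Γ : Type*} [Group Γ] (x y : Γ) (hx : x * x = 1) (hy : y * y = 1) (h : (x * y) ^ 3 = 1) :
    (x * y) * x * (x * y)⁻¹ = y := by
  have hxi : x⁻¹ = x := inv_eq_of_mul_eq_one_right hx
  have hyi : y⁻¹ = y := inv_eq_of_mul_eq_one_right hy
  have h3 : x * y * x * y * x * y = 1 := by
    have e : (x * y) ^ 3 = x * y * x * y * x * y := by
      rw [pow_succ, pow_succ, pow_one]; group
    rw [← e]; exact h
  have h4 : x * y * x = y * x * y := by
    have e : x * y * x = (x * y * x * y * x * y) * (y⁻¹ * x⁻¹ * y⁻¹) := by group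
    rw [e, h3, one_mul, hxi, hyi]
  rw [mul_inv_rev, hxi, hyi]
  calc x * y * x * (y * x) = (x * y * x) * y * x := by group
    _ = (y * x * y) * y * x := by rw [h4]
    _ = y * x * (y * y) * x := by group
    _ = y * (x * x) := by rw [hy]; group
    _ = y := by rw [hx, mul_one]

theorem conj_of_edge (x y : Fi23.Gen) (h : coxLabel Fi23.edges x y = 3) : IsConj (gx x) (gx y) := by
  rw [isConj_iff]
  have h3 := cox_rel x y
  rw [h] at h3
  exact ⟨gx x * gx y, braid_conj (gx x) (gx y) (gx_sq x) (gx_sq y) h3⟩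

theorem conj_j_g : IsConj (gx .j) (gx .g) := conj_of_edge .j .g (by decide)

theorem conj_j_a : IsConj (gx .j) (gx .a) :=
  (conj_of_edge .j .g (by decide)).trans <| (conj_of_edge .g .f (by decide)).trans <|
  (conj_of_edge .f .e (by decide)).trans <| (conj_of_edge .e .d (by decide)).trans <|
  (conj_of_edge .d .c (by decide)).trans <| (conj_of_edge .c .b (by decide)).trans
  (conj_of_edge .b .a (by decide))

theorem rel_j_a : (gx .j * gx .a) ^ 2 = 1 := by
  have h := cox_rel .j .a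
  have e : coxLabel Fi23.edges .j .a = 2 := by decide
  rw [e] at h
  exact h

theorem rel_j_g : (gx .j * gx .g) ^ 3 = 1 := by
  have h := cox_rel .j .g
  have e : coxLabel Fi23.edges .j .g = 3 := by decide
  rw [e] at h
  exact h

/-! ## The subgroup `K0` -/

theorem gen_mem (x : Fi23.Gen) (hx : FreeGroup.of x ∈ Fi23a.Ylist) : gx x ∈ K0 :=
  Subgroup.mem_map_of_mem _ (Subgroup.subset_closure hx)

theorem a_mem : gx .a ∈ K0 := gen_mem .a (by simp [Fi23a.Ylist])
theorem b_mem : gx .b ∈ K0 := gen_mem .b (by simp [Fi23a.Ylist])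
theorem c_mem : gx .c ∈ K0 := gen_mem .c (by simp [Fi23a.Ylist])
theorem d_mem : gx .d ∈ K0 := gen_mem .d (by simp [Fi23a.Ylist])
theorem e_mem : gx .e ∈ K0 := gen_mem .e (by simp [Fi23a.Ylist])
theorem f_mem : gx .f ∈ K0 := gen_mem .f (by simp [Fi23a.Ylist])
theorem g_mem : gx .g ∈ K0 := gen_mem .g (by simp [Fi23a.Ylist])
theorem h_mem : gx .h ∈ K0 := gen_mem .h (by simp [Fi23a.Ylist])
theorem i_mem : gx .i ∈ K0 := gen_mem .i (by simp [Fi23a.Ylist])

theorem j_not_mem : gx .j ∉ K0 := by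
  intro hj
  have htop : HH Fi23a.R Fi23a.Y = ⊤ := by
    rw [eq_top_iff, ← PresentedGroup.closure_range_of Fi23a.R, Subgroup.closure_le]
    rintro _ ⟨x, rfl⟩
    cases x
    exacts [a_mem, b_mem, c_mem, d_mem, e_mem, f_mem, g_mem, hj, h_mem, i_mem]
  have h1 := Fi23a.main_index
  rw [htop, Subgroup.index_top] at h1
  omega

/-! ## The central involution -/

/-- the word `(bcdefgh)^9` -/
def Zw : FreeGroup Fi23.Gen := (Fi23.b * Fi23.c * Fi23.d * Fi23.e * Fi23.f * Fi23.g * Fi23.h) ^ 9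

/-- the word `u` -/
def Uw : FreeGroup Fi23.Gen :=
  Fi23.j * Fi23.g * Fi23.f * Fi23.e * Fi23.d * Fi23.h * Fi23.c * Fi23.d * Fi23.e * Fi23.b * Fi23.c * Fi23.d *
    Fi23.h * Fi23.f * Fi23.g * Fi23.e * Fi23.f * Fi23.d * Fi23.e * Fi23.c * Fi23.d * Fi23.h * Fi23.b * Fi23.c *
    Fi23.d * Fi23.e * Fi23.f * Fi23.g

/-- the central involution of `K0` -/
noncomputable def zz : GG := PresentedGroup.mk Fi23a.R Zw

/-- the conjugating element -/
noncomputable def uu : GG := PresentedGroup.mk Fi23a.R Uw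

theorem hevz : ev Fi23a.gen 10 wz = Zw * (Uw * Fi23.j * Uw⁻¹) := by decide +kernel

theorem word_one : zz * (uu * gx .j * uu⁻¹) = 1 := by
  have h : PresentedGroup.mk Fi23a.R (Zw * (Uw * Fi23.j * Uw⁻¹)) = 1 := by
    apply Fi23C.card_inj.2
    rw [rhoG_mk, map_one, ← hevz]
    exact rhoF_ev_eq_one Fi23a.gen Fi23a.idx 10 Fi23a.ptabs Fi23a.inv_ok Fi23a.layout.hL Fi23a.layout.hig
      wz hletz hrelz
  rw [map_mul, map_mul, map_mul, map_inv] at h
  exact h

theorem zz_eq : zz = uu * gx .j * uu⁻¹ := by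
  have h := word_one
  have hj : (gx .j)⁻¹ = gx .j := inv_eq_of_mul_eq_one_right (gx_sq .j)
  have e : zz = (uu * gx .j * uu⁻¹)⁻¹ := eq_inv_of_mul_eq_one_left h
  rw [e, mul_inv_rev, mul_inv_rev, inv_inv, hj, mul_assoc]

theorem zz_sq : zz * zz = 1 := by
  rw [zz_eq]
  calc uu * gx .j * uu⁻¹ * (uu * gx .j * uu⁻¹) = uu * (gx .j * gx .j) * uu⁻¹ := by group
    _ = 1 := by rw [gx_sq, mul_one, mul_inv_cancel]

theorem j_ne_one : gx .j ≠ 1 := fun h => j_not_mem (h ▸ K0.one_mem)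

theorem zz_ne_one : zz ≠ 1 := by
  intro h
  apply j_ne_one
  rw [zz_eq] at h
  calc gx .j = uu⁻¹ * (uu * gx .j * uu⁻¹) * uu := by group
    _ = 1 := by rw [h]; group

theorem zz_mem : zz ∈ K0 := by
  apply Subgroup.mem_map_of_mem
  have hm : ∀ x : Fi23.Gen, FreeGroup.of x ∈ Fi23a.Ylist →
      FreeGroup.of x ∈ Subgroup.closure Fi23a.Y := fun x hx => Subgroup.subset_closure hx
  apply Subgroup.pow_mem
  refine Subgroup.mul_mem _ (Subgroup.mul_mem _ (Subgroup.mul_mem _ (Subgroup.mul_mem _ (Subgroup.mul_mem _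
    (Subgroup.mul_mem _ ?_ ?_) ?_) ?_) ?_) ?_) ?_
  · exact hm .b (by simp [Fi23a.Ylist])
  · exact hm .c (by simp [Fi23a.Ylist])
  · exact hm .d (by simp [Fi23a.Ylist])
  · exact hm .e (by simp [Fi23a.Ylist])
  · exact hm .f (by simp [Fi23a.Ylist])
  · exact hm .g (by simp [Fi23a.Ylist])
  · exact hm .h (by simp [Fi23a.Ylist])

/-! ## `z` is central in `K0` -/

theorem subHom_mk {α β : Type} (ι : β → α) (rels' : Set (FreeGroup β)) (rels : Set (FreeGroup α))
    (h : ∀ r ∈ rels', PresentedGroup.mk rels (FreeGroup.map ι r) = 1) (w : FreeGroup β) :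
    subHom ι rels' rels h (PresentedGroup.mk rels' w) = PresentedGroup.mk rels (FreeGroup.map ι w) := by
  have e : FreeGroup.lift (fun b => PresentedGroup.mk rels (FreeGroup.of (ι b))) =
      (PresentedGroup.mk rels).comp (FreeGroup.map ι) := by
    ext b
    simp
  show FreeGroup.lift (fun b => PresentedGroup.mk rels (FreeGroup.of (ι b))) w = _
  rw [e]
  rfl

/-- the word `(bcdefgh)^9` in the sub-diagram -/
def Z1 : FreeGroup Fi23P1D.Gen :=
  (Fi23P1D.b * Fi23P1D.c * Fi23P1D.d * Fi23P1D.e * Fi23P1D.f * Fi23P1D.g * Fi23P1D.h) ^ 9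

theorem map_iota_Z1 : FreeGroup.map Fi23P1D.iota Z1 = Zw := by decide +kernel

theorem map_jota_Z1 : FreeGroup.map Fi23D.jota Z1 ∈ Fi22.extra := by decide +kernel

theorem eH_Z1 : Fi23D.eH (PresentedGroup.mk Fi23P1.R Z1) = ⟨zz, zz_mem⟩ := by
  apply Subtype.ext
  show Fi23D.phi (PresentedGroup.mk Fi23P1.R Z1) = zz
  unfold Fi23D.phi
  rw [subHom_mk, map_iota_Z1]
  rfl

theorem piH_zz : Fi23D.piH ⟨zz, zz_mem⟩ = 1 := by
  rw [← eH_Z1]
  show Fi23D.psi (Fi23D.eH.symm (Fi23D.eH (PresentedGroup.mk Fi23P1.R Z1))) = 1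
  rw [MulEquiv.symm_apply_apply]
  unfold Fi23D.psi
  rw [subHom_mk, PresentedGroup.mk_eq_one_iff]
  exact Subgroup.subset_normalClosure (Or.inr map_jota_Z1)

theorem center_eq_ker : Subgroup.center K0 = Fi23D.piH.ker := by
  have : Finite K0 := Fi23D.finite_H
  apply Subgroup.eq_of_le_of_card_ge
  · intro z hz
    rw [MonoidHom.mem_ker]
    have hz' : Fi23D.piH z ∈ Subgroup.center (PresentedGroup Fi22b.R) := by
      rw [Subgroup.mem_center_iff]
      intro k
      obtain ⟨h, rfl⟩ := Fi23D.piH_surj k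
      rw [← map_mul, ← map_mul, (Subgroup.mem_center_iff.mp hz) h]
    rw [Fi23D.center_fi22, Subgroup.mem_bot] at hz'
    exact hz'
  · rw [Fi23D.card_ker, Fi23D.main.1]

theorem zz_central : ∀ k ∈ K0, k * zz = zz * k := by
  intro k hk
  have h1 : (⟨zz, zz_mem⟩ : K0) ∈ Subgroup.center K0 := by
    rw [center_eq_ker, MonoidHom.mem_ker]
    exact piH_zz
  have h2 := (Subgroup.mem_center_iff.mp h1) ⟨k, hk⟩
  exact congrArg Subtype.val h2

/-! ## Assembly -/

theorem finG : Finite GG := Fi23C.upper.1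

theorem center_G : Subgroup.center GG = ⊥ := by
  have := finG
  exact center_eq_bot_of_simple Fi23C.simple (by rw [Fi23C.card_inj.1]; norm_num)

theorem finQ : Finite (GG ⧸ K0) := by
  have := finG
  infer_instance

theorem K0_maximal : ∀ M : Subgroup GG, K0 ≤ M → M = K0 ∨ M = ⊤ := by
  have := finQ
  obtain ⟨hidx, qOf, h1, h2⟩ := Fi23a.main_orbits
  intro M hM
  exact maximal_of_three_orbits K0 3510 28160 (qOf 52) (qOf 1)
    (by rw [h1 52 (by decide)]; exact Fi23a.orb_cnt_52)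
    (by rw [h1 1 (by decide)]; exact Fi23a.orb_cnt_1)
    hidx (by norm_num) (by norm_num) (by norm_num) (by norm_num) (by norm_num) M hM

theorem cent_zz : Subgroup.centralizer ({zz} : Set GG) = K0 :=
  centralizer_eq_of_maximal K0 K0_maximal center_G zz zz_ne_one zz_central

theorem a_ne_j : gx .a ≠ gx .j := fun h => j_not_mem (h ▸ a_mem)
theorem g_ne_j : gx .g ≠ gx .j := fun h => j_not_mem (h ▸ g_mem)

/-- transport of a conjugate of `j` to a conjugate of `z` -/
theorem conj_transport (c : GG) :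
    (uu * c * uu⁻¹) * zz * (uu * c * uu⁻¹)⁻¹ = uu * (c * gx .j * c⁻¹) * uu⁻¹ := by
  rw [zz_eq]; group

theorem prod_transport (y : GG) :
    zz * (uu * y * uu⁻¹) = uu * (gx .j * y) * uu⁻¹ := by
  rw [zz_eq]; group

theorem conj_inj (x y : GG) (h : uu * x * uu⁻¹ = uu * y * uu⁻¹) : x = y := by
  calc x = uu⁻¹ * (uu * x * uu⁻¹) * uu := by group
    _ = uu⁻¹ * (uu * y * uu⁻¹) * uu := by rw [h]
    _ = y := by group

theorem three_transp : ∀ d ∈ conjugatesOf zz, ∀ e ∈ conjugatesOf zz, (d * e) ^ 2 = 1 ∨ (d * e) ^ 3 = 1 := by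
  have := finQ
  obtain ⟨hidx, qOf, h1, h2⟩ := Fi23a.main_orbits
  obtain ⟨ca, hca⟩ := isConj_iff.mp conj_j_a
  obtain ⟨cg, hcg⟩ := isConj_iff.mp conj_j_g
  refine three_transp_main K0 3510 28160 (qOf 52) (qOf 1)
    (by rw [h1 52 (by decide)]; exact Fi23a.orb_cnt_52)
    (by rw [h1 1 (by decide)]; exact Fi23a.orb_cnt_1)
    hidx (by norm_num) (by norm_num) (by norm_num) zz zz_central zz_sq
    (uu * ca * uu⁻¹) (uu * cg * uu⁻¹) ?_ ?_ ?_ ?_
  · rw [conj_transport, hca]
    intro h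
    rw [zz_eq] at h
    exact a_ne_j (conj_inj _ _ h)
  · rw [conj_transport, hcg]
    intro h
    rw [zz_eq] at h
    exact g_ne_j (conj_inj _ _ h)
  · rw [conj_transport, hca, prod_transport, conj_pow, rel_j_a, mul_one, mul_inv_cancel]
  · rw [conj_transport, hcg, prod_transport, conj_pow, rel_j_g, mul_one, mul_inv_cancel]

theorem order_two : ∀ d ∈ conjugatesOf zz, orderOf d = 2 := by
  intro d hd
  obtain ⟨g, rfl⟩ := (mem_conjOf_iff zz d).mp hd
  apply orderOf_eq_prime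
  · rw [conj_pow, pow_two, zz_sq, mul_one, mul_inv_cancel]
  · intro h
    apply zz_ne_one
    calc zz = g⁻¹ * (g * zz * g⁻¹) * g := by group
      _ = 1 := by rw [h]; group

theorem card_class : Nat.card (conjugatesOf zz) = 31671 := by
  rw [card_conjugatesOf_eq_index, cent_zz]
  exact Fi23a.main_index

theorem cover_class : ∀ d ∈ conjugatesOf zz,
    Cfsg.IsNonsplitDoubleCover (Subgroup.centralizer ({d} : Set GG)) (PresentedGroup Fi22b.R) := by
  intro d hd
  obtain ⟨g, rfl⟩ := (mem_conjOf_iff zz d).mp hd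
  have : Finite K0 := Fi23D.finite_H
  exact nonsplit_congr ((centConjEquiv zz g).trans (MulEquiv.subgroupCongr cent_zz)) Fi23D.main

theorem main : ∃ D : Set GG, Cfsg.IsThreeTranspositionClass D ∧ Nat.card D = 31671 ∧
    ∀ d ∈ D, ∃ (K : Type) (_ : Group K), Cfsg.IsFi22 K ∧
      Cfsg.IsNonsplitDoubleCover (Subgroup.centralizer ({d} : Set GG)) K := by
  refine ⟨conjugatesOf zz, ⟨⟨order_two, three_transp⟩, ⟨zz, mem_conjugatesOf_self, rfl⟩, ?_⟩, card_class, ?_⟩
  · exact closure_conjugatesOf_eq_top Fi23C.simple zz zz_ne_one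
  · intro d hd
    exact ⟨PresentedGroup Fi22b.R, inferInstance, ⟨Fi22C.simple, Fi22C.card_inj.1⟩, cover_class d hd⟩

end Cfsg.Agent.Helper92.Fi23T
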