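import Cfsg.Agent.Helper92.Fi23T.Word
set_option autoImplicit false
set_option maxRecDepth 1000000
namespace Cfsg.Agent.Helper92.Fi23T
open Cfsg.Agent.Helper28 Cfsg.Agent.Helper28.Fi23a

theorem zp_0 : permPieceF (fun _ => wz) letSel 0 1 0 2500 = true := by decide +kernel
theorem zp_2500 : permPieceF (fun _ => wz) letSel 0 1 2500 2500 = true := by decide +kernel
theorem zp_5000 : permPieceF (fun _ => wz) letSel 0 1 5000 2500 = true := by decide +kernel
theorem zp_7500 : permPieceF (fun _ => wz) letSel 0 1 7500 2500 = true := by decide +kernel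
end Cfsg.Agent.Helper92.Fi23T
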