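import Cfsg.Agent.Helper28.Fi23a.Data
import Cfsg.Agent.Helper28.CosetFun
set_option autoImplicit false
set_option maxRecDepth 1000000

/-!
# The word `(bcdefgh)^9 * (u * j * u⁻¹)` of the presented group `Fi23`

Here `u = j g f e d h c d e b c d h f g e f d e c d h b c d e f g` carries the simple root of `j` to the highest root
of the `E8` sub-diagram `b, c, d, e, f, g, j, h`.  The word acts trivially on the 31671 points.
-/

namespace Cfsg.Agent.Helper92.Fi23T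
open Cfsg.Agent.Helper28 Cfsg.Agent.Helper28.Fi23a

/-- the word `(bcdefgh)^9 * (u * j * u⁻¹)` in letter codes (`2k` for the generator `k`, `2k+1` for its inverse) -/
def wz : List Nat := [2, 4, 6, 8, 10, 12, 16, 2, 4, 6, 8, 10, 12, 16, 2, 4, 6, 8, 10, 12, 16, 2, 4, 6, 8, 10, 12, 16, 2, 4, 6, 8, 10, 12, 16, 2, 4, 6, 8, 10, 12, 16, 2, 4, 6, 8, 10, 12, 16, 2, 4, 6, 8, 10, 12, 16, 2, 4, 6, 8, 10, 12, 16, 14, 12, 10, 8, 6, 16, 4, 6, 8, 2, 4, 6, 16, 10, 12, 8, 10, 6, 8, 4, 6, 16, 2, 4, 6, 8, 10, 12, 14, 13, 11, 9, 7, 5, 3, 17, 7, 5, 9, 7, 11, 9, 13, 11, 17, 7, 5, 3, 9, 7, 5, 17, 7, 9, 11, 13, 15]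

theorem hletz : ∀ l ∈ wz, l < ptabs.L := by decide +kernel

end Cfsg.Agent.Helper92.Fi23T
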